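import Groth.Agent.FpqcHom.Colimit
import Groth.Agent.EtInvariance.Extend
import Groth.Agent.S10630
import Groth.Agent.AlgSpLib.Criteria
import Groth.Agent.AlgSpLib.CoverDesc

/-!
# Maps out of a cocone point with etale descent: uniqueness
-/

set_option autoImplicit false
universe w v u

open CategoryTheory CategoryTheory.Limits AlgebraicGeometry

set_option backward.isDefEq.respectTransparency false

namespace Groth.Agent.ColimEtale

open _root_.AlgSp Groth.Agent.AlgSpLib Groth.Agent.EtInvariance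

variable {S : Scheme.{u}} {B : Space S} {I : Type v} [Category.{w} I]

/-- etale covers are fppf covers -/
theorem isFppfCover_of_etale {κ : Type u} {X : Sp S} (hX : IsAlgSpace X) {Yi : κ → Sp S} {g : ∀ k, Yi k ⟶ X}
    (hg : ∀ k, IsEtaleMor (g k)) (hs : ∀ x, ∃ k y, Points.map (g k) y = x) : IsFppfCover Yi g :=
  ⟨fun k => ⟨fun A C a b c ha hb e => etST_flat.of_etale _ ((isEtaleMor_iff_locP hX).1 (hg k) a b c ha hb e),
    fun A C a b c ha hb e => etST_lfp.of_etale _ ((isEtaleMor_iff_locP hX).1 (hg k) a b c ha hb e)⟩, hs⟩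

variable (D : I ⥤ Over B) (c : Cocone D)

/-- base change systems determine morphisms of etale spaces over the cocone point -/
def EtFF : Prop :=
  ∀ (U U' : Over B) (u : U ⟶ c.pt) (u' : U' ⟶ c.pt), IsEtaleMor u.left.hom → IsEtaleMor u'.left.hom →
    ∀ (DU DU' : I ⥤ Over B) (αU : DU ⟶ D) (αU' : DU' ⟶ D) (ιU : DU ⟶ (Functor.const I).obj U)
      (ιU' : DU' ⟶ (Functor.const I).obj U'),
      (∀ i, IsPullback (ιU.app i).left.hom (αU.app i).left.hom u.left.hom (c.ι.app i).left.hom) →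
      (∀ i, IsPullback (ιU'.app i).left.hom (αU'.app i).left.hom u'.left.hom (c.ι.app i).left.hom) →
      ∀ (β : DU ⟶ DU'), β ≫ αU' = αU →
        ∃! m : U ⟶ U', m ≫ u' = u ∧ ∀ i, ιU.app i ≫ m = β.app i ≫ ιU'.app i

/-- maps to affine schemes over affine etale charts descend -/
def AffDesc : Prop :=
  ∀ (B' Zs Us : Over S) (b : (yon S).obj B' ⟶ B.obj) (z : Zs ⟶ B') {XB : Space S}
    (x₁ : XB ⟶ c.pt.left) (x₂ : XB.obj ⟶ (yon S).obj B') (uu : (yon S).obj Us ⟶ XB.obj)
    (DU : I ⥤ Space S) (αU : DU ⟶ D ⋙ Over.forget B)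
    (ιU : DU ⟶ (Functor.const I).obj ((ofScheme S).obj Us))
    (φ : DU ⟶ (Functor.const I).obj ((ofScheme S).obj Zs)),
    IsAffine B'.left → IsAffine Zs.left → IsAffine Us.left → RepWith @Etale b →
    IsPullback x₁.hom x₂ c.pt.hom.hom b → RepWith @Etale uu →
    (∀ i, IsPullback (ιU.app i).hom (αU.app i).hom (uu ≫ x₁.hom) (c.ι.app i).left.hom) →
    (∀ i, (φ.app i).hom ≫ (yon S).map z = (ιU.app i).hom ≫ uu ≫ x₂) →
      ∃! fz : Us ⟶ Zs, (yon S).map fz ≫ (yon S).map z = uu ≫ x₂ ∧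
        ∀ i, (ιU.app i).hom ≫ (yon S).map fz = (φ.app i).hom

variable {D c}

/-- a map between base change systems -/
theorem exists_lift_system {U' : Over B} {u' : U' ⟶ c.pt} {DU DU' : I ⥤ Over B} {αU : DU ⟶ D}
    {αU' : DU' ⟶ D} {ιU' : DU' ⟶ (Functor.const I).obj U'}
    (sq' : ∀ i, IsPullback (ιU'.app i).left.hom (αU'.app i).left.hom u'.left.hom (c.ι.app i).left.hom)
    (n : ∀ i, DU.obj i ⟶ U') (hn : ∀ ⦃i j : I⦄ (f : i ⟶ j), DU.map f ≫ n j = n i)
    (hw : ∀ i, n i ≫ u' = αU.app i ≫ c.ι.app i) :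
    ∃ β : DU ⟶ DU', β ≫ αU' = αU ∧ ∀ i, β.app i ≫ ιU'.app i = n i := by
  have hw' : ∀ i, (n i).left.hom ≫ u'.left.hom = (αU.app i).left.hom ≫ (c.ι.app i).left.hom := fun i =>
    congrArg (fun k : DU.obj i ⟶ c.pt => k.left.hom) (hw i)
  let b : ∀ i, (DU.obj i).left ⟶ (DU'.obj i).left := fun i =>
    ObjectProperty.homMk ((sq' i).lift _ _ (hw' i))
  have hb₁ : ∀ i, b i ≫ (ιU'.app i).left = (n i).left := fun i =>
    ObjectProperty.hom_ext _ ((sq' i).lift_fst _ _ (hw' i))
  have hb₂ : ∀ i, b i ≫ (αU'.app i).left = (αU.app i).left := fun i =>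
    ObjectProperty.hom_ext _ ((sq' i).lift_snd _ _ (hw' i))
  let β₀ : ∀ i, DU.obj i ⟶ DU'.obj i := fun i => Over.homMk (b i) (by
    rw [← Over.w (αU'.app i), ← Category.assoc, hb₂, Over.w])
  refine ⟨{ app := β₀, naturality := fun i j f => Over.OverMorphism.ext (ObjectProperty.hom_ext _
      ((sq' j).hom_ext ?_ ?_)) }, ?_, fun i => Over.OverMorphism.ext (hb₁ i)⟩
  · show ((DU.map f).left ≫ b j ≫ (ιU'.app j).left).hom = (b i ≫ (DU'.map f).left ≫ (ιU'.app j).left).hom
    rw [hb₁, ← Over.comp_left, hn, ← Over.comp_left _ _ _ (DU'.map f), ιU'.naturality,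
      show ιU'.app i ≫ ((Functor.const I).obj U').map f = ιU'.app i from Category.comp_id _, hb₁]
  · show ((DU.map f).left ≫ b j ≫ (αU'.app j).left).hom = (b i ≫ (DU'.map f).left ≫ (αU'.app j).left).hom
    rw [hb₂, ← Over.comp_left, αU.naturality, ← Over.comp_left _ _ _ (DU'.map f), αU'.naturality, Over.comp_left,
      Over.comp_left, ← Category.assoc, hb₂]
  · exact NatTrans.ext (funext fun i => Over.OverMorphism.ext (hb₂ i))

theorem system_map_ι {U : Over B} {DU : I ⥤ Over B} (ιU : DU ⟶ (Functor.const I).obj U) ⦃i j : I⦄ (f : i ⟶ j) :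
    DU.map f ≫ ιU.app j = ιU.app i :=
  (ιU.naturality f).trans (Category.comp_id _)

/-- maps over the cocone point are determined on the system -/
theorem ext_et (hff : EtFF D c) {U U' : Over B} {u : U ⟶ c.pt} {u' : U' ⟶ c.pt} (hu : IsEtaleMor u.left.hom)
    (hu' : IsEtaleMor u'.left.hom) {DU : I ⥤ Over B} {αU : DU ⟶ D} {ιU : DU ⟶ (Functor.const I).obj U}
    (sq : ∀ i, IsPullback (ιU.app i).left.hom (αU.app i).left.hom u.left.hom (c.ι.app i).left.hom)
    {m m' : U ⟶ U'} (hm : m ≫ u' = u) (hm' : m' ≫ u' = u) (h : ∀ i, ιU.app i ≫ m = ιU.app i ≫ m') : m = m' := by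
  obtain ⟨DU', αU', ιU', sq'⟩ := FpqcHom.exists_system (c := c) u'
  have e : ∀ i, ιU.app i ≫ u = αU.app i ≫ c.ι.app i := fun i =>
    Over.OverMorphism.ext (ObjectProperty.hom_ext _ (sq i).w)
  obtain ⟨β, hβ, hβι⟩ := exists_lift_system (αU := αU) sq' (fun i => ιU.app i ≫ m)
    (fun i j f => by rw [← Category.assoc, system_map_ι]) (fun i => by rw [Category.assoc, hm, e])
  exact (hff U U' u u' hu hu' DU DU' αU αU' ιU ιU' sq sq' β hβ).unique
    ⟨hm, fun i => (hβι i).symm⟩ ⟨hm', fun i => (h i).symm.trans (hβι i).symm⟩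

/-- maps to an affine etale chart of the base are determined on the system -/
theorem ext_base (hff : EtFF D c) {V : Over B} {v : V ⟶ c.pt} (hv : IsEtaleMor v.left.hom) {DV : I ⥤ Over B}
    {αV : DV ⟶ D} {ιV : DV ⟶ (Functor.const I).obj V}
    (sq : ∀ i, IsPullback (ιV.app i).left.hom (αV.app i).left.hom v.left.hom (c.ι.app i).left.hom)
    {B' : Over S} {b : (yon S).obj B' ⟶ B.obj} (hb : RepWith @Etale b) {n n' : V.left.obj ⟶ (yon S).obj B'}
    (hn : n ≫ b = V.hom.hom) (hn' : n' ≫ b = V.hom.hom)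
    (h : ∀ i, (ιV.app i).left.hom ≫ n = (ιV.app i).left.hom ≫ n') : n = n' := by
  have sqX := IsPullback.of_hasPullback c.pt.hom.hom b
  let XB : Space S := ⟨pullback c.pt.hom.hom b,
    isAlgSpace_of_isPullback_space B.property c.pt.left.property (IsAlgSpace.yon_obj B') sqX⟩
  let x₁ : XB ⟶ c.pt.left := ObjectProperty.homMk (pullback.fst _ _)
  let XO : Over B := Over.mk (x₁ ≫ c.pt.hom)
  let xO : XO ⟶ c.pt := Over.homMk x₁ rfl
  have hx : IsEtaleMor xO.left.hom := isEtaleMor_baseChange c.pt.left.property (IsAlgSpace.yon_obj B') B.property sqX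
    (isEtaleMor_of_repWith' hb)
  have hvw : v.left.hom ≫ c.pt.hom.hom = V.hom.hom := congrArg (fun k => k.hom) (Over.w v)
  let l : ∀ (k : V.left.obj ⟶ (yon S).obj B'), k ≫ b = V.hom.hom → (V ⟶ XO) := fun k hk =>
    Over.homMk (ObjectProperty.homMk (pullback.lift v.left.hom k (by rw [hvw, hk]))) (ObjectProperty.hom_ext _ (by
      show pullback.lift v.left.hom k _ ≫ pullback.fst _ _ ≫ c.pt.hom.hom = V.hom.hom
      rw [pullback.lift_fst_assoc, hvw]))
  have hl : ∀ k hk, l k hk ≫ xO = v := fun k hk =>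
    Over.OverMorphism.ext (ObjectProperty.hom_ext _ (pullback.lift_fst _ _ _))
  have := ext_et hff hv hx sq (hl n hn) (hl n' hn') fun i => Over.OverMorphism.ext (ObjectProperty.hom_ext _ (by
    show (ιV.app i).left.hom ≫ pullback.lift v.left.hom n _ = (ιV.app i).left.hom ≫ pullback.lift v.left.hom n' _
    refine pullback.hom_ext ?_ ?_
    · rw [Category.assoc, Category.assoc, pullback.lift_fst, pullback.lift_fst]
    · rw [Category.assoc, Category.assoc, pullback.lift_snd, pullback.lift_snd, h]))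
  have := congrArg (fun k : V ⟶ XO => k.left.hom ≫ pullback.snd _ _) this
  simpa [l] using this

/-- maps to an affine scheme over an affine etale chart of the base are determined on the system -/
theorem ext_affine (hff : EtFF D c) (haff : AffDesc D c) {V : Over B} {v : V ⟶ c.pt} (hv : IsEtaleMor v.left.hom)
    {DV : I ⥤ Over B} {αV : DV ⟶ D} {ιV : DV ⟶ (Functor.const I).obj V}
    (sq : ∀ i, IsPullback (ιV.app i).left.hom (αV.app i).left.hom v.left.hom (c.ι.app i).left.hom)
    {B' Zs : Over S} (hB' : IsAffine B'.left) (hZs : IsAffine Zs.left) {b : (yon S).obj B' ⟶ B.obj}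
    (hb : RepWith @Etale b) (z : Zs ⟶ B') {n n' : V.left.obj ⟶ (yon S).obj Zs}
    (hn : n ≫ (yon S).map z ≫ b = V.hom.hom) (hn' : n' ≫ (yon S).map z ≫ b = V.hom.hom)
    (h : ∀ i, (ιV.app i).left.hom ≫ n = (ιV.app i).left.hom ≫ n') : n = n' := by
  have hnz : n ≫ (yon S).map z = n' ≫ (yon S).map z := ext_base hff hv sq hb
    (by rw [Category.assoc, hn]) (by rw [Category.assoc, hn']) fun i => by rw [← Category.assoc, h, Category.assoc]
  refine S10630.eq_of_affine V.left.property fun Us p hUs hp => ?_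
  let ps : (ofScheme S).obj Us ⟶ V.left := ObjectProperty.homMk p
  let UsO : Over B := Over.mk (ps ≫ V.hom)
  let vo : UsO ⟶ c.pt := Over.homMk (ps ≫ v.left) (by
    show (ps ≫ v.left) ≫ c.pt.hom = ps ≫ V.hom
    rw [Category.assoc, Over.w])
  obtain ⟨DU, αU, ιU, sqU⟩ := FpqcHom.exists_system (c := c) vo
  have sqX := IsPullback.of_hasPullback c.pt.hom.hom b
  let XB : Space S := ⟨pullback c.pt.hom.hom b,
    isAlgSpace_of_isPullback_space B.property c.pt.left.property (IsAlgSpace.yon_obj B') sqX⟩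
  have hvw : v.left.hom ≫ c.pt.hom.hom = V.hom.hom := congrArg (fun k => k.hom) (Over.w v)
  let mV : V.left.obj ⟶ XB.obj := pullback.lift v.left.hom (n ≫ (yon S).map z) (by rw [Category.assoc, hn, hvw])
  have hmV₁ : mV ≫ pullback.fst _ _ = v.left.hom := pullback.lift_fst _ _ _
  have hmV₂ : mV ≫ pullback.snd _ _ = n ≫ (yon S).map z := pullback.lift_snd _ _ _
  have hmV : IsEtaleMor mV := isEtaleMor_of_comp XB.property c.pt.left.property (by rw [hmV₁]; exact hv)
    (isEtaleMor_baseChange c.pt.left.property (IsAlgSpace.yon_obj B') B.property sqX (isEtaleMor_of_repWith' hb))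
  -- the restriction of the system to the chart
  have hres : ∀ i, ∃ l : (DU.obj i).left.obj ⟶ (DV.obj i).left.obj,
      l ≫ (ιV.app i).left.hom = (ιU.app i).left.hom ≫ p := fun i => by
    have hw := (sqU i).w
    exact ⟨(sq i).lift ((ιU.app i).left.hom ≫ p) (αU.app i).left.hom (by rw [Category.assoc]; exact hw),
      (sq i).lift_fst _ _ _⟩
  let φ : DU ⋙ Over.forget B ⟶ (Functor.const I).obj ((ofScheme S).obj Zs) :=
    { app := fun i => ObjectProperty.homMk ((ιU.app i).left.hom ≫ p ≫ n)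
      naturality := fun i j f => ObjectProperty.hom_ext _ (by
        show (DU.map f).left.hom ≫ (ιU.app j).left.hom ≫ p ≫ n = ((ιU.app i).left.hom ≫ p ≫ n) ≫ 𝟙 _
        rw [Category.comp_id, ← Category.assoc]
        exact congrArg (fun k : DU.obj i ⟶ UsO => k.left.hom ≫ p ≫ n) (system_map_ι ιU f)) }
  obtain ⟨a, ha⟩ := exists_map_eq (p ≫ n)
  obtain ⟨a', ha'⟩ := exists_map_eq (p ≫ n')
  have key := haff B' Zs Us b z (XB := XB) (ObjectProperty.homMk (pullback.fst _ _)) (pullback.snd _ _) (p ≫ mV)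
    (DU ⋙ Over.forget B) (Functor.whiskerRight αU (Over.forget B))
    { app := fun i => (ιU.app i).left, naturality := fun i j f => congrArg (fun k => k.left) (ιU.naturality f) }
    φ hB' hZs hUs hb sqX (hmV p hp) (fun i => by
      show IsPullback (ιU.app i).left.hom (αU.app i).left.hom ((p ≫ mV) ≫ pullback.fst _ _) _
      rw [Category.assoc, hmV₁]
      exact sqU i) (fun i => by
      show ((ιU.app i).left.hom ≫ p ≫ n) ≫ (yon S).map z = (ιU.app i).left.hom ≫ (p ≫ mV) ≫ pullback.snd _ _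
      simp only [Category.assoc]
      rw [hmV₂])
  have : a = a' := key.unique ⟨by rw [ha, Category.assoc, Category.assoc, hmV₂], fun i => by rw [ha]; rfl⟩
    ⟨by rw [ha', Category.assoc, Category.assoc, hmV₂, hnz], fun i => by
      rw [ha']
      show (ιU.app i).left.hom ≫ p ≫ n' = (ιU.app i).left.hom ≫ p ≫ n
      obtain ⟨l, hl⟩ := hres i
      rw [← reassoc_of% hl, ← reassoc_of% hl, h]⟩
  rw [← ha, ← ha', this]

end Groth.Agent.ColimEtale
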