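import Groth.Agent.ColimEtale.Main

/-!
# A cocone point with etale descent is a colimit: existence
-/

set_option autoImplicit false
universe w v u

open CategoryTheory CategoryTheory.Limits AlgebraicGeometry

set_option backward.isDefEq.respectTransparency false

namespace Groth.Agent.ColimEtale

open _root_.AlgSp Groth.Agent.AlgSpLib Groth.Agent.EtInvariance

variable {S : Scheme.{u}} {B : Space S} {I : Type v} [Category.{w} I] {D : I ⥤ Over B} {c : Cocone D}

/-- every cartesian etale system over the diagram is a base change -/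
def EtEss (D : I ⥤ Over B) (c : Cocone D) : Prop :=
  ∀ (D' : I ⥤ Over B) (α : D' ⟶ D),
    (∀ ⦃i j : I⦄ (g : i ⟶ j), IsPullback (D'.map g).left.hom (α.app i).left.hom (α.app j).left.hom (D.map g).left.hom) →
    (∀ i, IsEtaleMor (α.app i).left.hom) →
      ∃ (c' : Cocone D') (a : c'.pt ⟶ c.pt), IsEtaleMor a.left.hom ∧
        ∀ i, IsPullback (c'.ι.app i).left.hom (α.app i).left.hom a.left.hom (c.ι.app i).left.hom

/-- etale neighbourhoods of the cocone point over which a given cocone descends -/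
theorem exists_local_desc (hess : EtEss D c) (hff : EtFF D c) (haff : AffDesc D c) (s : Cocone D) :
    ∃ (κ : Type u) (U : κ → Over B) (a : ∀ k, U k ⟶ c.pt) (ψ : ∀ k, U k ⟶ s.pt),
      (∀ k, IsEtaleMor (a k).left.hom) ∧ (∀ x, ∃ k y, Points.map (a k).left.hom y = x) ∧
      ∀ k (i : I) (T : Over B) (x : T ⟶ U k) (y : T ⟶ D.obj i), x ≫ a k = y ≫ c.ι.app i →
        x ≫ ψ k = y ≫ s.ι.app i := by
  obtain ⟨κ, B', Z, b, z, q, hB', hZ, hb, hq, hbq, hs⟩ := exists_charts s.pt
  let ZO : κ → Over B := fun k =>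
    Over.mk ((ObjectProperty.homMk (q k) : (ofScheme S).obj (Z k) ⟶ s.pt.left) ≫ s.pt.hom)
  let qO : ∀ k, ZO k ⟶ s.pt := fun k =>
    Over.homMk (ObjectProperty.homMk (q k) : (ofScheme S).obj (Z k) ⟶ s.pt.left) rfl
  choose Dk αk φk sqk using fun k => FpqcHom.exists_system (c := s) (qO k)
  have hαk : ∀ k i, IsEtaleMor ((αk k).app i).left.hom := fun k i =>
    isEtaleMor_baseChange (D.obj i).left.property (ZO k).left.property s.pt.left.property (sqk k i).flip
      (isEtaleMor_of_repWith' (hq k))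
  have hcart : ∀ k ⦃i j : I⦄ (g : i ⟶ j), IsPullback ((Dk k).map g).left.hom ((αk k).app i).left.hom
      ((αk k).app j).left.hom (D.map g).left.hom := fun k i j g => by
    have e₁ : ((Dk k).map g).left.hom ≫ ((φk k).app j).left.hom = ((φk k).app i).left.hom :=
      congrArg (fun t : (Dk k).obj i ⟶ ZO k => t.left.hom) (system_map_ι (φk k) g)
    have e₂ : (D.map g).left.hom ≫ (s.ι.app j).left.hom = (s.ι.app i).left.hom :=
      congrArg (fun t : D.obj i ⟶ s.pt => t.left.hom) (s.w g)
    refine IsPullback.of_right ?_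
      (congrArg (fun t : (Dk k).obj i ⟶ D.obj j => t.left.hom) ((αk k).naturality g)) (sqk k j)
    rw [e₁, e₂]
    exact sqk k i
  choose ck ak hak sqc using fun k => hess (Dk k) (αk k) (hcart k) (hαk k)
  have esys : ∀ k i, (ck k).ι.app i ≫ ak k = (αk k).app i ≫ c.ι.app i := fun k i =>
    Over.OverMorphism.ext (ObjectProperty.hom_ext _ (sqc k i).w)
  -- the maps to the charts of the base
  have sqX : ∀ k, IsPullback (pullback.fst c.pt.hom.hom (b k)) (pullback.snd c.pt.hom.hom (b k)) c.pt.hom.hom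
      (b k) := fun k => IsPullback.of_hasPullback _ _
  let XB : κ → Space S := fun k => ⟨pullback c.pt.hom.hom (b k),
    isAlgSpace_of_isPullback_space B.property c.pt.left.property (IsAlgSpace.yon_obj _) (sqX k)⟩
  let XO : κ → Over B := fun k =>
    Over.mk ((ObjectProperty.homMk (pullback.fst _ _) : XB k ⟶ c.pt.left) ≫ c.pt.hom)
  let xO : ∀ k, XO k ⟶ c.pt := fun k => Over.homMk (ObjectProperty.homMk (pullback.fst _ _)) rfl
  have hx : ∀ k, IsEtaleMor (xO k).left.hom := fun k => isEtaleMor_baseChange c.pt.left.property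
    (IsAlgSpace.yon_obj _) B.property (sqX k) (isEtaleMor_of_repWith' (hb k))
  have hφB : ∀ k i, (((αk k).app i).left.hom ≫ (c.ι.app i).left.hom) ≫ c.pt.hom.hom =
      (((φk k).app i).left.hom ≫ (yon S).map (z k)) ≫ b k := fun k i => by
    rw [Category.assoc ((φk k).app i).left.hom, hbq]
    exact (congrArg (fun t => t.hom) (Over.w ((αk k).app i ≫ c.ι.app i))).trans
      (congrArg (fun t => t.hom) (Over.w ((φk k).app i))).symm
  let n : ∀ k i, (Dk k).obj i ⟶ XO k := fun k i => Over.homMk
    (ObjectProperty.homMk (pullback.lift _ _ (hφB k i))) (ObjectProperty.hom_ext _ (by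
      show pullback.lift _ _ _ ≫ pullback.fst _ _ ≫ c.pt.hom.hom = ((Dk k).obj i).hom.hom
      rw [pullback.lift_fst_assoc]
      exact congrArg (fun t => t.hom) (Over.w ((αk k).app i ≫ c.ι.app i))))
  have hn₁ : ∀ k i, n k i ≫ xO k = (αk k).app i ≫ c.ι.app i := fun k i =>
    Over.OverMorphism.ext (ObjectProperty.hom_ext _ (pullback.lift_fst _ _ _))
  have hn₂ : ∀ k i, (n k i).left.hom ≫ pullback.snd _ _ = ((φk k).app i).left.hom ≫ (yon S).map (z k) :=
    fun k i => pullback.lift_snd _ _ _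
  have hm : ∀ k, ∃ m : (ck k).pt ⟶ XO k, m ≫ xO k = ak k ∧ ∀ i, (ck k).ι.app i ≫ m = n k i := fun k => by
    obtain ⟨DX, αX, ιX, sqDX⟩ := FpqcHom.exists_system (c := c) (xO k)
    obtain ⟨β, hβ, hβι⟩ := exists_lift_system (αU := αk k) sqDX (n k) (fun i j g => by
      refine Over.OverMorphism.ext (ObjectProperty.hom_ext _ (pullback.hom_ext ?_ ?_))
      · show ((Dk k).map g ≫ n k j ≫ xO k).left.hom = (n k i ≫ xO k).left.hom
        rw [hn₁, hn₁, ← Category.assoc, (αk k).naturality, Category.assoc, c.w]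
      · show (((Dk k).map g).left.hom ≫ (n k j).left.hom) ≫ pullback.snd _ _ = (n k i).left.hom ≫ pullback.snd _ _
        rw [Category.assoc, hn₂, hn₂]
        exact congrArg (fun t : (Dk k).obj i ⟶ ZO k => t.left.hom ≫ (yon S).map (z k)) (system_map_ι (φk k) g))
      (hn₁ k)
    obtain ⟨m, ⟨hm, hmι⟩, -⟩ := hff _ (XO k) _ _ (hak k) (hx k) (Dk k) DX (αk k) αX (ck k).ι ιX (sqc k) sqDX β hβ
    exact ⟨m, hm, fun i => (hmι i).trans (hβι i)⟩
  choose m hm hmι using hm
  choose σ Us p hUs hp hps using fun k => exists_affine_family (ck k).pt.left.property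
  let UO : ∀ k, σ k → Over B := fun k e =>
    Over.mk ((ObjectProperty.homMk (p k e) : (ofScheme S).obj (Us k e) ⟶ (ck k).pt.left) ≫ (ck k).pt.hom)
  let pO : ∀ k e, UO k e ⟶ (ck k).pt := fun k e =>
    Over.homMk (ObjectProperty.homMk (p k e) : (ofScheme S).obj (Us k e) ⟶ (ck k).pt.left) rfl
  have key : ∀ k e, ∃ ψ : UO k e ⟶ s.pt, ∀ (i : I) (T : Over B) (x : T ⟶ UO k e) (y : T ⟶ D.obj i),
      x ≫ pO k e ≫ ak k = y ≫ c.ι.app i → x ≫ ψ = y ≫ s.ι.app i := fun k e => by
    obtain ⟨DU, αU, ιU, sqU⟩ := FpqcHom.exists_system (c := c) (pO k e ≫ ak k)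
    have e₀ : ∀ i, ιU.app i ≫ pO k e ≫ ak k = αU.app i ≫ c.ι.app i := fun i =>
      Over.OverMorphism.ext (ObjectProperty.hom_ext _ (sqU i).w)
    obtain ⟨l, hl, hlι⟩ := exists_lift_system (αU := αU) (sqc k) (fun i => ιU.app i ≫ pO k e)
      (fun i j f => by rw [← Category.assoc, system_map_ι]) (fun i => by rw [Category.assoc, e₀])
    let φ : DU ⋙ Over.forget B ⟶ (Functor.const I).obj ((ofScheme S).obj (Z k)) :=
      Functor.whiskerRight (l ≫ φk k) (Over.forget B) ≫ ((Functor.constComp I (ZO k) (Over.forget B)).hom)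
    have hw : (pO k e ≫ m k).left.hom = p k e ≫ (m k).left.hom := rfl
    have hm' : IsEtaleMor (m k).left.hom := isEtaleMor_of_comp (XB k).property c.pt.left.property
      (show IsEtaleMor ((m k).left.hom ≫ (xO k).left.hom) by
        rw [show (m k).left.hom ≫ (xO k).left.hom = (ak k).left.hom from
          congrArg (fun t : (ck k).pt ⟶ c.pt => t.left.hom) (hm k)]
        exact hak k) (hx k)
    have hφι : ∀ i, (φ.app i).hom = (l.app i).left.hom ≫ ((φk k).app i).left.hom := fun i => by
      simp [φ, Functor.constComp]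
    obtain ⟨fz, ⟨hfz, hfzι⟩, -⟩ := haff (B' k) (Z k) (Us k e) (b k) (z k) (XB := XB k)
      (ObjectProperty.homMk (pullback.fst _ _)) (pullback.snd _ _) (p k e ≫ (m k).left.hom)
      (DU ⋙ Over.forget B) (Functor.whiskerRight αU (Over.forget B))
      { app := fun i => (ιU.app i).left, naturality := fun i j f => congrArg (fun t => t.left) (ιU.naturality f) }
      φ (hB' k) (hZ k) (hUs k e) (hb k) (sqX k) (hm' _ (hp k e)) (fun i => by
        show IsPullback (ιU.app i).left.hom (αU.app i).left.hom ((p k e ≫ (m k).left.hom) ≫ (xO k).left.hom) _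
        rw [Category.assoc]
        rw [show (m k).left.hom ≫ (xO k).left.hom = (ak k).left.hom from
          congrArg (fun t : (ck k).pt ⟶ c.pt => t.left.hom) (hm k)]
        exact sqU i) (fun i => by
        show (φ.app i).hom ≫ (yon S).map (z k) =
          (ιU.app i).left.hom ≫ (p k e ≫ (m k).left.hom) ≫ pullback.snd _ _
        have hc : l.app i ≫ n k i = ιU.app i ≫ pO k e ≫ m k := by
          rw [← hmι, ← Category.assoc, hlι, Category.assoc]
        rw [hφι, Category.assoc, ← hn₂]
        exact (Category.assoc _ _ _).symm.trans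
          ((congrArg (fun t : DU.obj i ⟶ XO k => t.left.hom ≫ pullback.snd _ _) hc).trans (Category.assoc _ _ _)))
    let ψ : UO k e ⟶ s.pt := Over.homMk (ObjectProperty.homMk ((yon S).map fz ≫ q k)) (ObjectProperty.hom_ext _ (by
      show ((yon S).map fz ≫ q k) ≫ s.pt.hom.hom = p k e ≫ (ck k).pt.hom.hom
      rw [Category.assoc, ← hbq, ← Category.assoc, hfz, Category.assoc, Category.assoc, ← pullback.condition]
      exact congrArg (p k e ≫ ·) (congrArg (fun t => t.hom) (Over.w (m k)))))
    refine ⟨ψ, fun i T x y hxy => ?_⟩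
    have hψ : ιU.app i ≫ ψ = αU.app i ≫ s.ι.app i := by
      refine Over.OverMorphism.ext (ObjectProperty.hom_ext _ ?_)
      show (ιU.app i).left.hom ≫ (yon S).map fz ≫ q k = (αU.app i).left.hom ≫ (s.ι.app i).left.hom
      rw [← hl]
      change (ιU.app i).left.hom ≫ (yon S).map fz ≫ q k =
        ((l.app i).left.hom ≫ ((αk k).app i).left.hom) ≫ (s.ι.app i).left.hom
      rw [Category.assoc, ← (sqk k i).w, ← Category.assoc]
      refine Eq.trans (congrArg (· ≫ q k) ((hfzι i).trans (hφι i))) ?_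
      exact Category.assoc _ _ _
    have hw' : x.left.hom ≫ (pO k e ≫ ak k).left.hom = y.left.hom ≫ (c.ι.app i).left.hom :=
      congrArg (fun t : T ⟶ c.pt => t.left.hom) hxy
    refine Over.OverMorphism.ext (ObjectProperty.hom_ext _ ?_)
    show x.left.hom ≫ ψ.left.hom = y.left.hom ≫ (s.ι.app i).left.hom
    refine (congrArg (· ≫ ψ.left.hom) ((sqU i).lift_fst _ _ hw').symm).trans
      (Eq.trans ?_ (congrArg (· ≫ (s.ι.app i).left.hom) ((sqU i).lift_snd _ _ hw')))
    refine (Category.assoc _ _ _).trans (Eq.trans ?_ (Category.assoc _ _ _).symm)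
    exact congrArg (fun t : DU.obj i ⟶ s.pt => (sqU i).lift _ _ hw' ≫ t.left.hom) hψ
  choose ψ hψ using key
  refine ⟨Σ k, σ k, fun e => UO e.1 e.2, fun e => pO e.1 e.2 ≫ ak e.1, fun e => ψ e.1 e.2,
    fun e => isEtaleMor_trans (isEtaleMor_of_repWith' (hp e.1 e.2)) (hak e.1), fun x => ?_,
    fun e i T x y => hψ e.1 e.2 i T x y⟩
  obtain ⟨k, y, rfl⟩ := exists_point_of_covers hff ak hak (fun i y => by
    obtain ⟨k, w, hw⟩ := hs (Points.map (s.ι.app i).left.hom y)
    obtain ⟨r, -, hr⟩ := exists_point_of_isPullback (sqk k i) w y hw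
    exact ⟨k, Points.map ((ck k).ι.app i).left.hom r, by
      rw [← Points.map_comp, (sqc k i).w, Points.map_comp, hr]⟩) x
  obtain ⟨e, w, rfl⟩ := hps k y
  exact ⟨⟨k, e⟩, w, Points.map_comp _ _ _⟩

/-- a cocone point with etale descent is a colimit -/
theorem nonempty_isColimit (hess : EtEss D c) (hff : EtFF D c) (haff : AffDesc D c) :
    Nonempty (IsColimit c) := by
  refine ⟨IsColimit.ofExistsUnique fun s => ?_⟩
  obtain ⟨κ, U, a, ψ, ha, hs, hψ⟩ := exists_local_desc hess hff haff s
  have hX := c.pt.left.property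
  have hU : ∀ k, IsAlgSpace (U k).left.obj := fun k => (U k).left.property
  have hcov := isFppfCover_of_etale hX ha hs
  have hagree : ∀ {T : Over S} (k k' : κ) (x : (yon S).obj T ⟶ (U k).left.obj)
      (y : (yon S).obj T ⟶ (U k').left.obj), x ≫ (a k).left.hom = y ≫ (a k').left.hom →
        x ≫ (ψ k).left.hom = y ≫ (ψ k').left.hom := by
    intro T k k' x y hxy
    have sqP := IsPullback.of_hasPullback (a k).left.hom (a k').left.hom
    let P : Space S := ⟨pullback (a k).left.hom (a k').left.hom,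
      isAlgSpace_of_isPullback_space hX (hU k) (hU k') sqP⟩
    let PO : Over B := Over.mk ((ObjectProperty.homMk (pullback.fst _ _) : P ⟶ (U k).left) ≫ (U k).hom)
    let p₁ : PO ⟶ U k := Over.homMk (ObjectProperty.homMk (pullback.fst _ _)) rfl
    let p₂ : PO ⟶ U k' := Over.homMk (ObjectProperty.homMk (pullback.snd _ _)) (ObjectProperty.hom_ext _ (by
      show pullback.snd _ _ ≫ (U k').hom.hom = pullback.fst _ _ ≫ (U k).hom.hom
      rw [← show (a k).left.hom ≫ c.pt.hom.hom = (U k).hom.hom from congrArg (fun t => t.hom) (Over.w (a k)),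
        ← show (a k').left.hom ≫ c.pt.hom.hom = (U k').hom.hom from congrArg (fun t => t.hom) (Over.w (a k')),
        pullback.condition_assoc]))
    have hp : p₁ ≫ a k = p₂ ≫ a k' := Over.OverMorphism.ext (ObjectProperty.hom_ext _ pullback.condition)
    have hv : IsEtaleMor (p₁ ≫ a k).left.hom :=
      isEtaleMor_trans (isEtaleMor_baseChange (hU k) (hU k') hX sqP (ha k')) (ha k)
    obtain ⟨DP, αP, ιP, sq⟩ := FpqcHom.exists_system (c := c) (p₁ ≫ a k)
    have e : ∀ i, ιP.app i ≫ p₁ ≫ a k = αP.app i ≫ c.ι.app i := fun i =>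
      Over.OverMorphism.ext (ObjectProperty.hom_ext _ (sq i).w)
    have h := ext_Y hff haff hv sq (f := p₁ ≫ ψ k) (f' := p₂ ≫ ψ k') fun i => by
      rw [← Category.assoc, ← Category.assoc, hψ k i _ (ιP.app i ≫ p₁) (αP.app i) (by rw [Category.assoc, e]),
        hψ k' i _ (ιP.app i ≫ p₂) (αP.app i) (by rw [Category.assoc, ← hp, e])]
    rw [← pullback.lift_fst x y hxy]
    conv_rhs => rw [← pullback.lift_snd x y hxy]
    rw [Category.assoc, Category.assoc]
    exact congrArg (fun t : PO ⟶ s.pt => pullback.lift x y hxy ≫ t.left.hom) h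
  obtain ⟨f, hf⟩ := FpqcHom.exists_desc (isFpqcCover_of_fppf hX hU hcov) s.pt.left.property
    (fun k => (ψ k).left.hom) (fun k k' x y => hagree k k' x y)
  let fO : c.pt ⟶ s.pt := Over.homMk (ObjectProperty.homMk f) (ObjectProperty.hom_ext _
    (hom_ext_of_fppfCover hX hU hcov fun k => by
      show (a k).left.hom ≫ f ≫ s.pt.hom.hom = (a k).left.hom ≫ c.pt.hom.hom
      rw [reassoc_of% hf k]
      exact (congrArg (fun t => t.hom) (Over.w (ψ k))).trans (congrArg (fun t => t.hom) (Over.w (a k))).symm))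
  have hfac : ∀ i, c.ι.app i ≫ fO = s.ι.app i := fun i => by
    refine Over.OverMorphism.ext (ObjectProperty.hom_ext _ ?_)
    have hD := (D.obj i).left.property
    refine hom_ext_of_fppfCover (g := fun k => pullback.snd (a k).left.hom (c.ι.app i).left.hom) hD (fun k =>
      isAlgSpace_of_isPullback_space hX (hU k) hD (IsPullback.of_hasPullback _ _))
      (isFppfCover_of_etale hD (fun k => isEtaleMor_baseChange hD (hU k) hX
        (IsPullback.of_hasPullback _ _).flip (ha k)) fun x => ?_) fun k => ?_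
    · obtain ⟨k, y, hy⟩ := hs (Points.map (c.ι.app i).left.hom x)
      obtain ⟨r, -, hr⟩ := exists_point_of_isPullback
        (IsPullback.of_hasPullback (a k).left.hom (c.ι.app i).left.hom) y x hy
      exact ⟨k, r, hr⟩
    · show pullback.snd _ _ ≫ (c.ι.app i).left.hom ≫ f = pullback.snd _ _ ≫ (s.ι.app i).left.hom
      rw [← pullback.condition_assoc, hf]
      let Q : Space S := ⟨pullback (a k).left.hom (c.ι.app i).left.hom,
        isAlgSpace_of_isPullback_space hX (hU k) hD (IsPullback.of_hasPullback _ _)⟩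
      let QO : Over B := Over.mk ((ObjectProperty.homMk (pullback.snd _ _) : Q ⟶ (D.obj i).left) ≫ (D.obj i).hom)
      let x : QO ⟶ U k := Over.homMk (ObjectProperty.homMk (pullback.fst _ _)) (ObjectProperty.hom_ext _ (by
        show pullback.fst _ _ ≫ (U k).hom.hom = pullback.snd _ _ ≫ (D.obj i).hom.hom
        rw [← show (a k).left.hom ≫ c.pt.hom.hom = (U k).hom.hom from congrArg (fun t => t.hom) (Over.w (a k)),
          ← show (c.ι.app i).left.hom ≫ c.pt.hom.hom = (D.obj i).hom.hom from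
            congrArg (fun t => t.hom) (Over.w (c.ι.app i)), pullback.condition_assoc]))
      let y : QO ⟶ D.obj i := Over.homMk (ObjectProperty.homMk (pullback.snd _ _)) rfl
      exact congrArg (fun t : QO ⟶ s.pt => t.left.hom)
        (hψ k i QO x y (Over.OverMorphism.ext (ObjectProperty.hom_ext _ pullback.condition)))
  exact ⟨fO, hfac, fun g hg => ext_Y hff haff (v := 𝟙 c.pt) (isEtaleMor_of_repWith' (repWith_of_isIso (𝟙 _)))
    (αV := 𝟙 D) (ιV := c.ι) (fun i => IsPullback.of_vert_isIso ⟨(Category.comp_id _).trans (Category.id_comp _).symm⟩)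
    fun i => (hg i).trans (hfac i).symm⟩

end Groth.Agent.ColimEtale
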