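import Groth.Agent.ColimEtale.Core
import Groth.Agent.AlgSpLib.Subspace

/-!
# A cocone point with etale descent is a colimit
-/

set_option autoImplicit false
universe w v u

open CategoryTheory CategoryTheory.Limits AlgebraicGeometry

set_option backward.isDefEq.respectTransparency false

namespace Groth.Agent.ColimEtale

open _root_.AlgSp Groth.Agent.AlgSpLib Groth.Agent.EtInvariance

variable {S : Scheme.{u}} {B : Space S} {I : Type v} [Category.{w} I] {D : I ⥤ Over B} {c : Cocone D}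

theorem isEtaleMor_trans {F G H : Sp S} {f : F ⟶ G} {g : G ⟶ H} (hf : IsEtaleMor f) (hg : IsEtaleMor g) :
    IsEtaleMor (f ≫ g) := fun _ φ hφ => by
  have := hg (φ ≫ f) (hf φ hφ)
  rwa [Category.assoc] at this

/-- a family of affine schemes etale over a space, jointly surjective on points -/
theorem exists_affine_family {Y : Sp S} (hY : IsAlgSpace Y) :
    ∃ (κ : Type u) (Z : κ → Over S) (g : ∀ k, (yon S).obj (Z k) ⟶ Y),
      (∀ k, IsAffine (Z k).left) ∧ (∀ k, RepWith @Etale (g k)) ∧ ∀ y, ∃ k x, Points.map (g k) x = y := by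
  obtain ⟨U, p, κ, Z, he, hs, hZ, -, hcov⟩ := exists_affine_chart_family hY
  let W : κ → Over S := fun k => Over.mk ((Z k).ι ≫ U.hom)
  let j : ∀ k, W k ⟶ U := fun k => Over.homMk (Z k).ι rfl
  refine ⟨κ, W, fun k => (yon S).map (j k) ≫ p, hZ,
    fun k => repWith_comp ((repWith_yon_iff _).2 (inferInstanceAs (Etale (Z k).ι))) he, fun x => ?_⟩
  obtain ⟨u, rfl⟩ := ofPt_surjective hs x
  obtain ⟨k, hk⟩ := hcov u
  exact ⟨k, Points.ofScheme (W k) ⟨u, hk⟩, by rw [Points.map_ofPt, Category.id_comp, ofPt_comp]; rfl⟩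

/-- affine etale charts of a space over affine etale charts of the base -/
theorem exists_charts (Y : Over B) :
    ∃ (κ : Type u) (B' Z : κ → Over S) (b : ∀ k, (yon S).obj (B' k) ⟶ B.obj) (z : ∀ k, Z k ⟶ B' k)
      (q : ∀ k, (yon S).obj (Z k) ⟶ Y.left.obj),
      (∀ k, IsAffine (B' k).left) ∧ (∀ k, IsAffine (Z k).left) ∧ (∀ k, RepWith @Etale (b k)) ∧
      (∀ k, RepWith @Etale (q k)) ∧ (∀ k, (yon S).map (z k) ≫ b k = q k ≫ Y.hom.hom) ∧
      ∀ y, ∃ k x, Points.map (q k) x = y := by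
  obtain ⟨κ₀, B₀, b₀, hB₀, hb₀, hs₀⟩ := exists_affine_family B.property
  have sq : ∀ k, IsPullback (pullback.fst (b₀ k) Y.hom.hom) (pullback.snd (b₀ k) Y.hom.hom) (b₀ k) Y.hom.hom :=
    fun k => IsPullback.of_hasPullback _ _
  have hP : ∀ k, IsAlgSpace (pullback (b₀ k) Y.hom.hom) := fun k =>
    isAlgSpace_of_isPullback_space B.property (IsAlgSpace.yon_obj _) Y.left.property (sq k)
  choose κ₁ W g hW hg hsg using fun k => exists_affine_family (hP k)
  choose z hz using fun (k : Σ k, κ₁ k) => exists_map_eq (g k.1 k.2 ≫ pullback.fst (b₀ k.1) Y.hom.hom)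
  refine ⟨Σ k, κ₁ k, fun k => B₀ k.1, fun k => W k.1 k.2, fun k => b₀ k.1, z,
    fun k => g k.1 k.2 ≫ pullback.snd (b₀ k.1) Y.hom.hom, fun k => hB₀ k.1, fun k => hW k.1 k.2,
    fun k => hb₀ k.1, fun k => repWith_comp (hg k.1 k.2) (repWith_baseChange (sq k.1) (hb₀ k.1)), fun k => ?_,
    fun y => ?_⟩
  · rw [hz, Category.assoc, Category.assoc, pullback.condition]
  · obtain ⟨k, x, hx⟩ := hs₀ (Points.map Y.hom.hom y)
    obtain ⟨p, -, hp⟩ := exists_point_of_isPullback (sq k) x y hx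
    obtain ⟨l, w, rfl⟩ := hsg k p
    exact ⟨⟨k, l⟩, w, (Points.map_comp _ _ _).trans hp⟩

/-- two maps out of a space etale over the cocone point agreeing on the system are equal -/
theorem ext_Y (hff : EtFF D c) (haff : AffDesc D c) {V Y : Over B} {v : V ⟶ c.pt} (hv : IsEtaleMor v.left.hom)
    {DV : I ⥤ Over B} {αV : DV ⟶ D} {ιV : DV ⟶ (Functor.const I).obj V}
    (sq : ∀ i, IsPullback (ιV.app i).left.hom (αV.app i).left.hom v.left.hom (c.ι.app i).left.hom)
    {f f' : V ⟶ Y} (h : ∀ i, ιV.app i ≫ f = ιV.app i ≫ f') : f = f' := by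
  obtain ⟨κ, B', Z, b, z, q, hB', hZ, hb, hq, hbq, hs⟩ := exists_charts Y
  have hVsp := V.left.property
  have hP : ∀ (g : V ⟶ Y) k, IsAlgSpace (pullback g.left.hom (q k)) := fun g k =>
    isAlgSpace_of_isPullback_space Y.left.property hVsp (IsAlgSpace.yon_obj _) (IsPullback.of_hasPullback _ _)
  have hfst : ∀ (g : V ⟶ Y) k, IsEtaleMor (pullback.fst g.left.hom (q k)) := fun g k =>
    isEtaleMor_baseChange hVsp (IsAlgSpace.yon_obj _) Y.left.property (IsPullback.of_hasPullback _ _)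
      (isEtaleMor_of_repWith' (hq k))
  refine Over.OverMorphism.ext (ObjectProperty.hom_ext _ (hom_ext_of_fppfCover hVsp (hP f)
    (isFppfCover_of_etale hVsp (hfst f) fun x => ?_) fun k => ?_))
  · obtain ⟨k, y, hy⟩ := hs (Points.map f.left.hom x)
    obtain ⟨p, hp, -⟩ := exists_point_of_isPullback
      (IsPullback.of_hasPullback f.left.hom (q k)) x y hy.symm
    exact ⟨k, p, hp⟩
  let mkP : ∀ g : V ⟶ Y, Over B := fun g =>
    Over.mk ((ObjectProperty.homMk (pullback.fst g.left.hom (q k)) :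
      (⟨pullback g.left.hom (q k), hP g k⟩ : Space S) ⟶ V.left) ≫ V.hom)
  let pr : ∀ g : V ⟶ Y, mkP g ⟶ V := fun g => Over.homMk (ObjectProperty.homMk (pullback.fst g.left.hom (q k))) rfl
  have hpr : ∀ g, IsEtaleMor (pr g ≫ v).left.hom := fun g => by
    show IsEtaleMor (pullback.fst g.left.hom (q k) ≫ v.left.hom)
    exact isEtaleMor_trans (hfst g k) hv
  obtain ⟨DP, αP, ιP, sqP⟩ := FpqcHom.exists_system (c := c) (pr f ≫ v)
  obtain ⟨DP', αP', ιP', sqP'⟩ := FpqcHom.exists_system (c := c) (pr f' ≫ v)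
  have e : ∀ i, ιP.app i ≫ pr f ≫ v = αP.app i ≫ c.ι.app i := fun i =>
    Over.OverMorphism.ext (ObjectProperty.hom_ext _ (sqP i).w)
  -- agreement of the two composites on the system
  have hag : ∀ i, ιP.app i ≫ pr f ≫ f = ιP.app i ≫ pr f ≫ f' := fun i => by
    have hw : ((ιP.app i).left.hom ≫ (pr f).left.hom) ≫ v.left.hom =
        (αP.app i).left.hom ≫ (c.ι.app i).left.hom := by
      rw [Category.assoc]
      exact (sqP i).w
    refine Over.OverMorphism.ext (ObjectProperty.hom_ext _ ?_)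
    show (ιP.app i).left.hom ≫ (pr f).left.hom ≫ f.left.hom = (ιP.app i).left.hom ≫ (pr f).left.hom ≫ f'.left.hom
    rw [← reassoc_of% (sq i).lift_fst _ _ hw, ← reassoc_of% (sq i).lift_fst _ _ hw]
    exact congrArg (fun t : DV.obj i ⟶ Y => (sq i).lift _ _ hw ≫ t.left.hom) (h i)
  have hvY : ∀ g : V ⟶ Y, g.left.hom ≫ Y.hom.hom = V.hom.hom := fun g => congrArg (fun t => t.hom) (Over.w g)
  let n : ∀ i, DP.obj i ⟶ mkP f' := fun i => Over.homMk (ObjectProperty.homMk (pullback.lift
      ((ιP.app i).left.hom ≫ (pr f).left.hom) ((ιP.app i).left.hom ≫ pullback.snd f.left.hom (q k)) (by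
      rw [Category.assoc, Category.assoc, ← pullback.condition]
      exact (congrArg (fun t : DP.obj i ⟶ Y => t.left.hom) (hag i)).symm))) (ObjectProperty.hom_ext _ (by
    show pullback.lift _ _ _ ≫ pullback.fst f'.left.hom (q k) ≫ V.hom.hom = (DP.obj i).hom.hom
    rw [pullback.lift_fst_assoc, Category.assoc]
    exact congrArg (fun t => t.hom) (Over.w (ιP.app i))))
  have hn₁ : ∀ i, n i ≫ pr f' = ιP.app i ≫ pr f := fun i =>
    Over.OverMorphism.ext (ObjectProperty.hom_ext _ (pullback.lift_fst _ _ _))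
  have hn₂ : ∀ i, (n i).left.hom ≫ pullback.snd f'.left.hom (q k) =
      (ιP.app i).left.hom ≫ pullback.snd f.left.hom (q k) := fun i => pullback.lift_snd _ _ _
  obtain ⟨β, hβ, hβι⟩ := exists_lift_system (αU := αP) sqP' n (fun i j g => by
    refine Over.OverMorphism.ext (ObjectProperty.hom_ext _ (pullback.hom_ext ?_ ?_))
    · show (DP.map g ≫ n j ≫ pr f').left.hom = (n i ≫ pr f').left.hom
      rw [hn₁, hn₁, ← Category.assoc, system_map_ι]
    · show ((DP.map g).left.hom ≫ (n j).left.hom) ≫ pullback.snd _ _ = (n i).left.hom ≫ pullback.snd _ _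
      rw [Category.assoc, hn₂, hn₂]
      exact congrArg (fun t : DP.obj i ⟶ mkP f => t.left.hom ≫ pullback.snd _ _) (system_map_ι ιP g))
    (fun i => by rw [← Category.assoc, hn₁, Category.assoc, e])
  obtain ⟨m, ⟨hm, hmι⟩, -⟩ := hff (mkP f) (mkP f') _ _ (hpr f) (hpr f') DP DP' αP αP' ιP ιP' sqP sqP' β hβ
  have hm₁ : m ≫ pr f' = pr f := ext_et hff (hpr f) hv sqP (by rw [Category.assoc, hm]) rfl fun i => by
    rw [← Category.assoc, hmι, hβι, hn₁]
  have hm₁' : m.left.hom ≫ pullback.fst f'.left.hom (q k) = pullback.fst f.left.hom (q k) :=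
    congrArg (fun t : mkP f ⟶ V => t.left.hom) hm₁
  have hm₂ : m.left.hom ≫ pullback.snd f'.left.hom (q k) = pullback.snd f.left.hom (q k) := by
    refine ext_affine hff haff (hpr f) sqP (hB' k) (hZ k) (hb k) (z k) ?_ ?_ fun i => ?_
    · show _ = pullback.fst f.left.hom (q k) ≫ V.hom.hom
      rw [hbq, Category.assoc, ← pullback.condition_assoc, hvY, reassoc_of% hm₁']
    · show _ = pullback.fst f.left.hom (q k) ≫ V.hom.hom
      rw [hbq, ← pullback.condition_assoc, hvY]
    · rw [← hn₂, ← Category.assoc]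
      exact congrArg (fun t : DP.obj i ⟶ mkP f' => t.left.hom ≫ pullback.snd f'.left.hom (q k))
        ((hmι i).trans (hβι i))
  rw [pullback.condition, ← hm₂, Category.assoc, ← pullback.condition, reassoc_of% hm₁']

/-- the images of etale spaces whose systems cover the diagram cover the cocone point -/
theorem exists_point_of_covers (hff : EtFF D c) {κ : Type u} {U : κ → Over B} (a : ∀ k, U k ⟶ c.pt)
    (ha : ∀ k, IsEtaleMor (a k).left.hom)
    (h : ∀ i y, ∃ k x, Points.map (a k).left.hom x = Points.map (c.ι.app i).left.hom y) (x : Points c.pt.left.obj) :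
    ∃ k y, Points.map (a k).left.hom y = x := by
  let W : Set (Points c.pt.left.obj) := ⋃ k, Set.range (Points.map (a k).left.hom)
  have hW : IsOpen W := isOpen_iUnion fun k => by
    have hfl := (isEtaleMor_iff_locP c.pt.left.property).1 (ha k)
    rw [← Set.image_univ]
    exact isOpenMap_map_of_flat_lfp (U k).left.property c.pt.left.property _
      (fun _ _ a b g ha hb e => etST_flat.of_etale _ (hfl a b g ha hb e))
      (fun _ _ a b g ha hb e => etST_lfp.of_etale _ (hfl a b g ha hb e)) _ isOpen_univ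
  let WS : Space S := ⟨subSheaf W, isAlgSpace_subSheaf c.pt.left.property hW⟩
  let WO : Over B := Over.mk ((ObjectProperty.homMk (subInc W) : WS ⟶ c.pt.left) ≫ c.pt.hom)
  let j : WO ⟶ c.pt := Over.homMk (ObjectProperty.homMk (subInc W)) rfl
  have hj : IsEtaleMor j.left.hom := isEtaleMor_of_repWith' (repWith_mono (P := @IsOpenImmersion) (Q := @Etale)
    (fun _ _ g hg => have : IsOpenImmersion g := hg; inferInstance) (repWith_subInc hW))
  have : Mono j.left.hom := mono_subInc W
  have hlift : ∀ i, ∃ g : (D.obj i).left.obj ⟶ subSheaf W, g ≫ subInc W = (c.ι.app i).left.hom := fun i =>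
    exists_factor_subInc _ fun y => by
      obtain ⟨k, x, hx⟩ := h i y
      exact Set.mem_iUnion.2 ⟨k, x, hx⟩
  choose g hg using hlift
  let n : ∀ i, D.obj i ⟶ WO := fun i => Over.homMk (ObjectProperty.homMk (g i)) (ObjectProperty.hom_ext _ (by
    show g i ≫ subInc W ≫ c.pt.hom.hom = (D.obj i).hom.hom
    rw [reassoc_of% hg i]
    exact congrArg (fun t => t.hom) (Over.w (c.ι.app i))))
  have hn : ∀ i, n i ≫ j = c.ι.app i := fun i => Over.OverMorphism.ext (ObjectProperty.hom_ext _ (hg i))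
  obtain ⟨DW, αW, ιW, sqW⟩ := FpqcHom.exists_system (c := c) j
  obtain ⟨β, hβ, -⟩ := exists_lift_system (αU := 𝟙 D) sqW n (fun i i' f => by
    refine Over.OverMorphism.ext (ObjectProperty.hom_ext _ ((cancel_mono j.left.hom).1 ?_))
    exact congrArg (fun t : D.obj i ⟶ c.pt => t.left.hom) (show (D.map f ≫ n i') ≫ j = n i ≫ j by
      rw [Category.assoc, hn, hn, c.w]))
    (fun i => by rw [hn]; exact (Category.id_comp _).symm)
  obtain ⟨m, ⟨hm, -⟩, -⟩ := hff c.pt WO (𝟙 _) j (isEtaleMor_of_repWith' (repWith_of_isIso (𝟙 _))) hj D DW (𝟙 D)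
    αW c.ι ιW (fun i => by
      exact IsPullback.of_vert_isIso ⟨(Category.comp_id _).trans (Category.id_comp _).symm⟩) sqW β hβ
  have hm' : m.left.hom ≫ subInc W = 𝟙 _ := congrArg (fun t : c.pt ⟶ c.pt => t.left.hom) hm
  have : Points.map (subInc W) (Points.map m.left.hom x) = x := by
    rw [← Points.map_comp, hm', Points.map_id]
  obtain ⟨k, y, hy⟩ := Set.mem_iUnion.1 (this ▸ map_subInc_mem (W := W) _)
  exact ⟨k, y, hy⟩

end Groth.Agent.ColimEtale
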