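import Groth.Agent.ColimEtale.Main
import Groth.Agent.AlgSpLib.DiagCrit
import Groth.Agent.SpQS.Basic

/-!
# A colimit among separated spaces with etale descent is a colimit
-/

set_option autoImplicit false
universe w v u

open CategoryTheory CategoryTheory.Limits AlgebraicGeometry

set_option backward.isDefEq.respectTransparency false

namespace Groth.Agent.ColimEtale

open _root_.AlgSp Groth.Agent.AlgSpLib Groth.Agent.EtInvariance

variable {S : Scheme.{u}}

theorem isSeparatedMor_cancel {X Y Z : Sp S} {f : X ⟶ Y} (g : Y ⟶ Z) (h : IsSeparatedMor (f ≫ g)) :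
    IsSeparatedMor f := by
  let i : pullback f f ⟶ pullback (f ≫ g) (f ≫ g) :=
    pullback.map _ _ _ _ (𝟙 X) (𝟙 X) g (by simp) (by simp)
  have hi₁ : i ≫ pullback.fst _ _ = pullback.fst f f := by simp [i]
  have hi₂ : i ≫ pullback.snd _ _ = pullback.snd f f := by simp [i]
  have : Mono i := ⟨fun a b e => pullback.hom_ext
    (by rw [← hi₁, ← Category.assoc, e, Category.assoc]) (by rw [← hi₂, ← Category.assoc, e, Category.assoc])⟩
  have e : pullback.diagonal f ≫ i = pullback.diagonal (f ≫ g) := by apply pullback.hom_ext <;> simp [i]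
  refine repWith_baseChange (?_ : IsPullback (𝟙 X) (pullback.diagonal f) (pullback.diagonal (f ≫ g)) i) h
  exact ⟨⟨by rw [Category.id_comp, e]⟩, ⟨PullbackCone.IsLimit.mk _ (fun t => t.fst) (fun t => Category.comp_id _)
      (fun t => (cancel_mono i).1 (by rw [Category.assoc, e, t.condition]))
      (fun t m h₁ _ => (Category.comp_id m).symm.trans h₁)⟩⟩

/-- maps out of affine schemes are separated -/
theorem isSeparatedMor_of_affine_source {Z : Over S} (hZ : IsAffine Z.left) {F : Sp S} (f : (yon S).obj Z ⟶ F) :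
    IsSeparatedMor f := by
  refine isSeparatedMor_cancel (SpQS.baseStr F) ?_
  rw [show f ≫ SpQS.baseStr F = (yon S).map (Over.homMk Z.hom (Category.comp_id _)) from
    SpQS.isTerminalBase.hom_ext _ _]
  refine (repWith_diagonal_yon_iff @IsClosedImmersion _).2 ?_
  have : IsSeparated Z.hom := inferInstance
  exact this.1

variable {B : Space S} {I : Type v} [Category.{w} I] {P : ObjectProperty (Over B)}
  {D : I ⥤ P.FullSubcategory} {c : Cocone D}

/-- base changes along separated etale maps are colimits among separated spaces -/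
def SepColim (D : I ⥤ P.FullSubcategory) (c : Cocone D) : Prop :=
  ∀ (D' : I ⥤ P.FullSubcategory) (α : D' ⟶ D) (c' : Cocone D') (a : c'.pt ⟶ c.pt),
    IsEtaleMor a.hom.left.hom → IsSeparatedMor a.hom.left.hom →
    (∀ i, IsPullback (c'.ι.app i).hom.left.hom (α.app i).hom.left.hom a.hom.left.hom (c.ι.app i).hom.left.hom) →
      Nonempty (IsColimit c')

theorem exists_system_colim (hP : ∀ T : Over B, P T ↔ IsSeparatedMor T.hom.hom) (h₄ : SepColim D c) {U : Over B}
    (u : U ⟶ c.pt.obj) (hu : IsEtaleMor u.left.hom) (hus : IsSeparatedMor u.left.hom) :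
    P U ∧ ∃ (DU : I ⥤ Over B) (αU : DU ⟶ D ⋙ P.ι) (ιU : DU ⟶ (Functor.const I).obj U),
      (∀ i, IsPullback (ιU.app i).left.hom (αU.app i).left.hom u.left.hom (c.ι.app i).hom.left.hom) ∧
      ∀ (T : Over B), P T → ∀ (n : ∀ i, DU.obj i ⟶ T), (∀ ⦃i j : I⦄ (f : i ⟶ j), DU.map f ≫ n j = n i) →
        ∃! m : U ⟶ T, ∀ i, ιU.app i ≫ m = n i := by
  have hU : P U := (hP U).2 (by
    rw [← show u.left.hom ≫ c.pt.obj.hom.hom = U.hom.hom from congrArg (fun t => t.hom) (Over.w u)]
    exact isSeparatedMor_comp hus ((hP _).1 c.pt.property))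
  refine ⟨hU, ?_⟩
  obtain ⟨DU, αU, ιU, sq⟩ := FpqcHom.exists_system (c := P.ι.mapCocone c) u
  have hDU : ∀ i, P (DU.obj i) := fun i => (hP _).2 (by
    rw [← show (αU.app i).left.hom ≫ (D.obj i).obj.hom.hom = (DU.obj i).hom.hom from
      congrArg (fun t => t.hom) (Over.w (αU.app i))]
    exact isSeparatedMor_comp (isSeparatedMor_baseChange (sq i) hus) ((hP _).1 (D.obj i).property))
  refine ⟨DU, αU, ιU, sq, ?_⟩
  let D' : I ⥤ P.FullSubcategory := P.lift DU hDU
  let c' : Cocone D' :=
    { pt := ⟨U, hU⟩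
      ι := { app := fun i => ObjectProperty.homMk (ιU.app i)
             naturality := fun i j f => ObjectProperty.hom_ext _ (ιU.naturality f) } }
  obtain ⟨hc⟩ := h₄ D' { app := fun i => ObjectProperty.homMk (αU.app i)
                         naturality := fun i j f => ObjectProperty.hom_ext _ (αU.naturality f) }
    c' (ObjectProperty.homMk u) hu hus sq
  intro T hT n hn
  let s : Cocone D' :=
    { pt := ⟨T, hT⟩
      ι := { app := fun i => ObjectProperty.homMk (n i)
             naturality := fun i j f => ObjectProperty.hom_ext _ ((hn f).trans (Category.comp_id _).symm) } }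
  refine ⟨(hc.desc s).hom, fun i => congrArg (fun t => t.hom) (hc.fac s i), fun m hm => ?_⟩
  exact congrArg (fun t => t.hom) (hc.uniq s (ObjectProperty.homMk m) fun i => ObjectProperty.hom_ext _ (hm i))

/-- maps out of a separated etale space agreeing on the diagram are equal -/
theorem ext_sep (hP : ∀ T : Over B, P T ↔ IsSeparatedMor T.hom.hom) (h₄ : SepColim D c) {V Y : Over B}
    {v : V ⟶ c.pt.obj} (hv : IsEtaleMor v.left.hom) (hvs : IsSeparatedMor v.left.hom) {f f' : V ⟶ Y}
    (h : ∀ (i : I) (T : Over B) (x : T ⟶ V) (y : T ⟶ (D.obj i).obj),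
      x ≫ v = y ≫ (c.ι.app i).hom → x ≫ f = x ≫ f') : f = f' := by
  obtain ⟨κ, B', Z, b, z, q, hB', hZ, hb, hq, hbq, hs⟩ := exists_charts Y
  have hVsp := V.left.property
  have hV : P V := (exists_system_colim hP h₄ v hv hvs).1
  have hQ : ∀ (g : V ⟶ Y) k, IsAlgSpace (pullback g.left.hom (q k)) := fun g k =>
    isAlgSpace_of_isPullback_space Y.left.property hVsp (IsAlgSpace.yon_obj _) (IsPullback.of_hasPullback _ _)
  have hfst : ∀ (g : V ⟶ Y) k, IsEtaleMor (pullback.fst g.left.hom (q k)) := fun g k =>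
    isEtaleMor_baseChange hVsp (IsAlgSpace.yon_obj _) Y.left.property (IsPullback.of_hasPullback _ _)
      (isEtaleMor_of_repWith' (hq k))
  refine Over.OverMorphism.ext (ObjectProperty.hom_ext _ (hom_ext_of_fppfCover hVsp (hQ f)
    (isFppfCover_of_etale hVsp (hfst f) fun x => ?_) fun k => ?_))
  · obtain ⟨k, y, hy⟩ := hs (Points.map f.left.hom x)
    obtain ⟨p, hp, -⟩ := exists_point_of_isPullback
      (IsPullback.of_hasPullback f.left.hom (q k)) x y hy.symm
    exact ⟨k, p, hp⟩
  let mkP : ∀ g : V ⟶ Y, Over B := fun g =>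
    Over.mk ((ObjectProperty.homMk (pullback.fst g.left.hom (q k)) :
      (⟨pullback g.left.hom (q k), hQ g k⟩ : Space S) ⟶ V.left) ≫ V.hom)
  let pr : ∀ g : V ⟶ Y, mkP g ⟶ V := fun g => Over.homMk (ObjectProperty.homMk (pullback.fst g.left.hom (q k))) rfl
  let ZO : Over B := Over.mk ((ObjectProperty.homMk (q k) : (ofScheme S).obj (Z k) ⟶ Y.left) ≫ Y.hom)
  have hZO : P ZO := (hP _).2 (isSeparatedMor_of_affine_source (hZ k) _)
  have hvY : ∀ g : V ⟶ Y, g.left.hom ≫ Y.hom.hom = V.hom.hom := fun g => congrArg (fun t => t.hom) (Over.w g)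
  let sn : ∀ g : V ⟶ Y, mkP g ⟶ ZO := fun g =>
    Over.homMk (ObjectProperty.homMk (pullback.snd g.left.hom (q k)) : _ ⟶ (ofScheme S).obj (Z k))
      (ObjectProperty.hom_ext _ (by
        show pullback.snd g.left.hom (q k) ≫ q k ≫ Y.hom.hom = pullback.fst g.left.hom (q k) ≫ V.hom.hom
        rw [← pullback.condition_assoc, hvY]))
  have hprs : ∀ g : V ⟶ Y, IsSeparatedMor (pullback.fst g.left.hom (q k)) := fun g =>
    isSeparatedMor_baseChange (IsPullback.of_hasPullback g.left.hom (q k)).flip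
      (isSeparatedMor_of_affine_source (hZ k) (q k))
  have hpr : ∀ g, IsEtaleMor (pr g ≫ v).left.hom := fun g => isEtaleMor_trans (hfst g k) hv
  have hprv : ∀ g, IsSeparatedMor (pr g ≫ v).left.hom := fun g => isSeparatedMor_comp (hprs g) hvs
  obtain ⟨-, DP, αP, ιP, sqP, colP⟩ := exists_system_colim hP h₄ _ (hpr f) (hprv f)
  have hP' : P (mkP f') := (exists_system_colim hP h₄ _ (hpr f') (hprv f')).1
  have hag : ∀ i, ιP.app i ≫ pr f ≫ f = ιP.app i ≫ pr f ≫ f' := fun i => by
    rw [← Category.assoc, ← Category.assoc]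
    refine h i _ _ (αP.app i) ?_
    rw [Category.assoc]
    exact Over.OverMorphism.ext (ObjectProperty.hom_ext _ (sqP i).w)
  have hsn : ∀ g, (sn g).left.hom ≫ q k = (pr g).left.hom ≫ g.left.hom := fun g => pullback.condition.symm
  let n : ∀ i, DP.obj i ⟶ mkP f' := fun i => Over.homMk (ObjectProperty.homMk (pullback.lift
      ((ιP.app i).left.hom ≫ (pr f).left.hom) ((ιP.app i).left.hom ≫ (sn f).left.hom) (by
      rw [Category.assoc, Category.assoc, hsn]
      exact (congrArg (fun t : DP.obj i ⟶ Y => t.left.hom) (hag i)).symm))) (ObjectProperty.hom_ext _ (by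
    show pullback.lift _ _ _ ≫ pullback.fst f'.left.hom (q k) ≫ V.hom.hom = (DP.obj i).hom.hom
    rw [pullback.lift_fst_assoc, Category.assoc]
    exact congrArg (fun t => t.hom) (Over.w (ιP.app i))))
  have hn₁ : ∀ i, n i ≫ pr f' = ιP.app i ≫ pr f := fun i =>
    Over.OverMorphism.ext (ObjectProperty.hom_ext _ (pullback.lift_fst _ _ _))
  have hn₂ : ∀ i, n i ≫ sn f' = ιP.app i ≫ sn f := fun i =>
    Over.OverMorphism.ext (ObjectProperty.hom_ext _ (pullback.lift_snd _ _ _))
  obtain ⟨m, hm, -⟩ := colP _ hP' n (fun i j g => by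
    refine Over.OverMorphism.ext (ObjectProperty.hom_ext _ (pullback.hom_ext ?_ ?_))
    · show (DP.map g ≫ n j ≫ pr f').left.hom = (n i ≫ pr f').left.hom
      rw [hn₁, hn₁, ← Category.assoc, system_map_ι]
    · show (DP.map g ≫ n j ≫ sn f').left.hom = (n i ≫ sn f').left.hom
      rw [hn₂, hn₂, ← Category.assoc, system_map_ι])
  have hm₁ : m ≫ pr f' = pr f := (colP V hV (fun i => ιP.app i ≫ pr f)
    (fun i j g => by rw [← Category.assoc, system_map_ι])).unique
    (fun i => by rw [← Category.assoc, hm, hn₁]) fun i => rfl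
  have hm₂ : m ≫ sn f' = sn f := (colP ZO hZO (fun i => ιP.app i ≫ sn f)
    (fun i j g => by rw [← Category.assoc, system_map_ι])).unique
    (fun i => by rw [← Category.assoc, hm, hn₂]) fun i => rfl
  show (pr f).left.hom ≫ f.left.hom = (pr f).left.hom ≫ f'.left.hom
  rw [← hsn, ← congrArg (fun t : mkP f ⟶ ZO => t.left.hom) hm₂]
  show (m.left.hom ≫ (sn f').left.hom) ≫ q k = _
  rw [Category.assoc, hsn, ← Category.assoc]
  exact congrArg (fun t : mkP f ⟶ V => t.left.hom ≫ f'.left.hom) hm₁

/-- a colimit among separated spaces with etale descent is a colimit -/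
theorem nonempty_isColimit_sep (hP : ∀ T : Over B, P T ↔ IsSeparatedMor T.hom.hom)
    (h₃ : ∀ x : Points c.pt.obj.left.obj, ∃ (i : I) (y : Points (D.obj i).obj.left.obj),
      Points.map (c.ι.app i).hom.left.hom y = x)
    (h₄ : SepColim D c)
    (h₅ : ∀ (D' : I ⥤ P.FullSubcategory) (α : D' ⟶ D),
      (∀ ⦃i j : I⦄ (g : i ⟶ j), IsPullback (D'.map g).hom.left.hom (α.app i).hom.left.hom (α.app j).hom.left.hom
        (D.map g).hom.left.hom) →
      (∀ i, IsEtaleMor (α.app i).hom.left.hom) → (∀ i, IsSeparatedMor (α.app i).hom.left.hom) →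
        ∃ (c' : Cocone D') (a : c'.pt ⟶ c.pt), IsEtaleMor a.hom.left.hom ∧ IsSeparatedMor a.hom.left.hom ∧
          ∀ i, IsPullback (c'.ι.app i).hom.left.hom (α.app i).hom.left.hom a.hom.left.hom (c.ι.app i).hom.left.hom) :
    Nonempty (IsColimit (P.ι.mapCocone c)) := by
  refine ⟨IsColimit.ofExistsUnique fun s => ?_⟩
  obtain ⟨κ, B', Z, b, z, q, -, hZ, -, hq, -, hs⟩ := exists_charts s.pt
  let ZO : κ → Over B := fun k =>
    Over.mk ((ObjectProperty.homMk (q k) : (ofScheme S).obj (Z k) ⟶ s.pt.left) ≫ s.pt.hom)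
  have hZO : ∀ k, P (ZO k) := fun k => (hP _).2 (isSeparatedMor_of_affine_source (hZ k) _)
  let qO : ∀ k, ZO k ⟶ s.pt := fun k =>
    Over.homMk (ObjectProperty.homMk (q k) : (ofScheme S).obj (Z k) ⟶ s.pt.left) rfl
  choose Dk αk φk sqk using fun k => FpqcHom.exists_system (c := s) (qO k)
  have hαk : ∀ k i, IsEtaleMor ((αk k).app i).left.hom := fun k i =>
    isEtaleMor_baseChange (D.obj i).obj.left.property (ZO k).left.property s.pt.left.property (sqk k i).flip
      (isEtaleMor_of_repWith' (hq k))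
  have hαs : ∀ k i, IsSeparatedMor ((αk k).app i).left.hom := fun k i =>
    isSeparatedMor_baseChange (sqk k i) (isSeparatedMor_of_affine_source (hZ k) (q k))
  have hDk : ∀ k i, P ((Dk k).obj i) := fun k i => (hP _).2 (by
    rw [← show ((αk k).app i).left.hom ≫ (D.obj i).obj.hom.hom = ((Dk k).obj i).hom.hom from
      congrArg (fun t => t.hom) (Over.w ((αk k).app i))]
    exact isSeparatedMor_comp (hαs k i) ((hP _).1 (D.obj i).property))
  have hcart : ∀ k ⦃i j : I⦄ (g : i ⟶ j), IsPullback ((Dk k).map g).left.hom ((αk k).app i).left.hom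
      ((αk k).app j).left.hom (D.map g).hom.left.hom := fun k i j g => by
    have e₁ : ((Dk k).map g).left.hom ≫ ((φk k).app j).left.hom = ((φk k).app i).left.hom :=
      congrArg (fun t : (Dk k).obj i ⟶ ZO k => t.left.hom) (system_map_ι (φk k) g)
    have e₂ : (D.map g).hom.left.hom ≫ (s.ι.app j).left.hom = (s.ι.app i).left.hom :=
      congrArg (fun t : (D.obj i).obj ⟶ s.pt => t.left.hom) (s.w g)
    refine IsPullback.of_right ?_
      (congrArg (fun t : (Dk k).obj i ⟶ (D.obj j).obj => t.left.hom) ((αk k).naturality g)) (sqk k j)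
    rw [e₁, e₂]
    exact sqk k i
  have key : ∀ k, ∃ (U : Over B) (a : U ⟶ c.pt.obj) (ψ : U ⟶ s.pt), IsEtaleMor a.left.hom ∧
      IsSeparatedMor a.left.hom ∧
      (∀ (i : I) (T : Over B) (x : T ⟶ U) (y : T ⟶ (D.obj i).obj), x ≫ a = y ≫ (c.ι.app i).hom →
        x ≫ ψ = y ≫ s.ι.app i) ∧
      ∀ (i : I) (r : Points ((Dk k).obj i).left.obj), ∃ w,
        Points.map a.left.hom w = Points.map (c.ι.app i).hom.left.hom (Points.map ((αk k).app i).left.hom r) :=
      fun k => by
    let D' : I ⥤ P.FullSubcategory := P.lift (Dk k) (hDk k)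
    let α' : D' ⟶ D := { app := fun i => ObjectProperty.homMk ((αk k).app i)
                         naturality := fun i j f => ObjectProperty.hom_ext _ ((αk k).naturality f) }
    obtain ⟨c', a, hae, has, sqc⟩ := h₅ D' α' (hcart k) (hαk k) (hαs k)
    obtain ⟨hc⟩ := h₄ D' α' c' a hae has sqc
    let t : Cocone D' :=
      { pt := ⟨ZO k, hZO k⟩
        ι := { app := fun i => ObjectProperty.homMk ((φk k).app i)
               naturality := fun i j f => ObjectProperty.hom_ext _ ((φk k).naturality f) } }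
    refine ⟨c'.pt.obj, a.hom, (hc.desc t).hom ≫ qO k, hae, has, fun i T x y hxy => ?_, fun i r =>
      ⟨Points.map (c'.ι.app i).hom.left.hom r, (Points.map_comp _ _ r).symm.trans
        ((congrArg (fun e => Points.map e r) (sqc i).w).trans (Points.map_comp _ _ r))⟩⟩
    have hfac : (c'.ι.app i).hom ≫ (hc.desc t).hom ≫ qO k = (αk k).app i ≫ s.ι.app i := by
      rw [← Category.assoc, show (c'.ι.app i).hom ≫ (hc.desc t).hom = (φk k).app i from
        congrArg (fun e => e.hom) (hc.fac t i)]
      exact Over.OverMorphism.ext (ObjectProperty.hom_ext _ (sqk k i).w)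
    have hw : x.left.hom ≫ a.hom.left.hom = y.left.hom ≫ (c.ι.app i).hom.left.hom :=
      congrArg (fun e : T ⟶ c.pt.obj => e.left.hom) hxy
    refine Over.OverMorphism.ext (ObjectProperty.hom_ext _ ?_)
    refine (congrArg (· ≫ ((hc.desc t).hom ≫ qO k).left.hom) ((sqc i).lift_fst _ _ hw).symm).trans
      (Eq.trans ?_ (congrArg (· ≫ (s.ι.app i).left.hom) ((sqc i).lift_snd _ _ hw)))
    refine (Category.assoc _ _ _).trans (Eq.trans ?_ (Category.assoc _ _ _).symm)
    exact congrArg (fun e : (Dk k).obj i ⟶ s.pt => (sqc i).lift _ _ hw ≫ e.left.hom) hfac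
  choose U a ψ ha has hψ hsur using key
  have hX := c.pt.obj.left.property
  have hU : ∀ k, IsAlgSpace (U k).left.obj := fun k => (U k).left.property
  have hsurj : ∀ x, ∃ k y, Points.map (a k).left.hom y = x := fun x => by
    obtain ⟨i, y, rfl⟩ := h₃ x
    obtain ⟨k, w, hw⟩ := hs (Points.map (s.ι.app i).left.hom y)
    obtain ⟨r, -, hr⟩ := exists_point_of_isPullback (sqk k i) w y hw
    obtain ⟨p, hp⟩ := hsur k i r
    exact ⟨k, p, by rw [hp, hr]⟩
  have hcov := isFppfCover_of_etale hX ha hsurj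
  have hagree : ∀ {T : Over S} (k k' : κ) (x : (yon S).obj T ⟶ (U k).left.obj)
      (y : (yon S).obj T ⟶ (U k').left.obj), x ≫ (a k).left.hom = y ≫ (a k').left.hom →
        x ≫ (ψ k).left.hom = y ≫ (ψ k').left.hom := by
    intro T k k' x y hxy
    have sqP := IsPullback.of_hasPullback (a k).left.hom (a k').left.hom
    let Q : Space S := ⟨pullback (a k).left.hom (a k').left.hom,
      isAlgSpace_of_isPullback_space hX (hU k) (hU k') sqP⟩
    let PO : Over B := Over.mk ((ObjectProperty.homMk (pullback.fst _ _) : Q ⟶ (U k).left) ≫ (U k).hom)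
    let p₁ : PO ⟶ U k := Over.homMk (ObjectProperty.homMk (pullback.fst _ _)) rfl
    let p₂ : PO ⟶ U k' := Over.homMk (ObjectProperty.homMk (pullback.snd _ _)) (ObjectProperty.hom_ext _ (by
      show pullback.snd _ _ ≫ (U k').hom.hom = pullback.fst _ _ ≫ (U k).hom.hom
      rw [← show (a k).left.hom ≫ c.pt.obj.hom.hom = (U k).hom.hom from congrArg (fun t => t.hom) (Over.w (a k)),
        ← show (a k').left.hom ≫ c.pt.obj.hom.hom = (U k').hom.hom from congrArg (fun t => t.hom) (Over.w (a k')),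
        pullback.condition_assoc]))
    have hp : p₁ ≫ a k = p₂ ≫ a k' := Over.OverMorphism.ext (ObjectProperty.hom_ext _ pullback.condition)
    have h := ext_sep hP h₄ (v := p₁ ≫ a k) (f := p₁ ≫ ψ k) (f' := p₂ ≫ ψ k')
      (isEtaleMor_trans (isEtaleMor_baseChange (hU k) (hU k') hX sqP (ha k')) (ha k))
      (isSeparatedMor_comp (isSeparatedMor_baseChange sqP.flip (has k')) (has k)) fun i T x y e => by
        rw [← Category.assoc, ← Category.assoc, hψ k i _ (x ≫ p₁) y (by rw [Category.assoc, e]),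
          hψ k' i _ (x ≫ p₂) y (by rw [Category.assoc, ← hp, e])]
    rw [← pullback.lift_fst x y hxy]
    conv_rhs => rw [← pullback.lift_snd x y hxy]
    rw [Category.assoc, Category.assoc]
    exact congrArg (fun t : PO ⟶ s.pt => pullback.lift x y hxy ≫ t.left.hom) h
  obtain ⟨f, hf⟩ := FpqcHom.exists_desc (isFpqcCover_of_fppf hX hU hcov) s.pt.left.property
    (fun k => (ψ k).left.hom) (fun k k' x y => hagree k k' x y)
  let fO : c.pt.obj ⟶ s.pt := Over.homMk (ObjectProperty.homMk f) (ObjectProperty.hom_ext _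
    (hom_ext_of_fppfCover hX hU hcov fun k => by
      show (a k).left.hom ≫ f ≫ s.pt.hom.hom = (a k).left.hom ≫ c.pt.obj.hom.hom
      rw [reassoc_of% hf k]
      exact (congrArg (fun t => t.hom) (Over.w (ψ k))).trans (congrArg (fun t => t.hom) (Over.w (a k))).symm))
  have hfac : ∀ i, (c.ι.app i).hom ≫ fO = s.ι.app i := fun i => by
    refine Over.OverMorphism.ext (ObjectProperty.hom_ext _ ?_)
    have hD := (D.obj i).obj.left.property
    refine hom_ext_of_fppfCover (g := fun k => pullback.snd (a k).left.hom (c.ι.app i).hom.left.hom) hD (fun k =>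
      isAlgSpace_of_isPullback_space hX (hU k) hD (IsPullback.of_hasPullback _ _))
      (isFppfCover_of_etale hD (fun k => isEtaleMor_baseChange hD (hU k) hX
        (IsPullback.of_hasPullback _ _).flip (ha k)) fun x => ?_) fun k => ?_
    · obtain ⟨k, y, hy⟩ := hsurj (Points.map (c.ι.app i).hom.left.hom x)
      obtain ⟨r, -, hr⟩ := exists_point_of_isPullback
        (IsPullback.of_hasPullback (a k).left.hom (c.ι.app i).hom.left.hom) y x hy
      exact ⟨k, r, hr⟩
    · show pullback.snd _ _ ≫ (c.ι.app i).hom.left.hom ≫ f = pullback.snd _ _ ≫ (s.ι.app i).left.hom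
      rw [← pullback.condition_assoc, hf]
      let Q : Space S := ⟨pullback (a k).left.hom (c.ι.app i).hom.left.hom,
        isAlgSpace_of_isPullback_space hX (hU k) hD (IsPullback.of_hasPullback _ _)⟩
      let QO : Over B :=
        Over.mk ((ObjectProperty.homMk (pullback.snd _ _) : Q ⟶ (D.obj i).obj.left) ≫ (D.obj i).obj.hom)
      let x : QO ⟶ U k := Over.homMk (ObjectProperty.homMk (pullback.fst _ _)) (ObjectProperty.hom_ext _ (by
        show pullback.fst _ _ ≫ (U k).hom.hom = pullback.snd _ _ ≫ (D.obj i).obj.hom.hom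
        rw [← show (a k).left.hom ≫ c.pt.obj.hom.hom = (U k).hom.hom from congrArg (fun t => t.hom) (Over.w (a k)),
          ← show (c.ι.app i).hom.left.hom ≫ c.pt.obj.hom.hom = (D.obj i).obj.hom.hom from
            congrArg (fun t => t.hom) (Over.w (c.ι.app i).hom), pullback.condition_assoc]))
      let y : QO ⟶ (D.obj i).obj := Over.homMk (ObjectProperty.homMk (pullback.snd _ _)) rfl
      exact congrArg (fun t : QO ⟶ s.pt => t.left.hom)
        (hψ k i QO x y (Over.OverMorphism.ext (ObjectProperty.hom_ext _ pullback.condition)))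
  refine ⟨fO, hfac, fun g hg => ext_sep hP h₄ (v := 𝟙 c.pt.obj) (isEtaleMor_of_repWith' (repWith_of_isIso (𝟙 _)))
    ((repWith_of_isIso _ : IsSeparatedMor (𝟙 c.pt.obj.left.obj))) fun i T x y e => ?_⟩
  rw [Category.comp_id] at e
  subst e
  rw [Category.assoc, Category.assoc, hfac]
  exact congrArg (y ≫ ·) (hg i)

end Groth.Agent.ColimEtale
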